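import Mathlib.CategoryTheory.Triangulated.Triangulated
import Mathlib.Algebra.Homology.HomologicalComplex

/-!
# Postnikov systems
-/

universe v u

open CategoryTheory CategoryTheory.Limits CategoryTheory.Pretriangulated

namespace Groth.Agent.Lib.Postnikov.Basic

variable {D : Type u} [Category.{v} D] [Preadditive D] [HasZeroObject D] [HasShift D ℤ]
  [∀ n : ℤ, (shiftFunctor D n).Additive] [Pretriangulated D]

/-- All morphisms `X⟦a⟧ ⟶ Y` vanish. -/
def V (X : D) (a : ℤ) (Y : D) : Prop := ∀ ψ : X⟦a⟧ ⟶ Y, ψ = 0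

lemma V_zero_iff {X Y : D} : V X 0 Y ↔ ∀ ψ : X ⟶ Y, ψ = 0 := by
  constructor
  · intro h ψ
    rw [← cancel_epi ((shiftFunctorZero D ℤ).hom.app X), comp_zero]
    exact h _
  · intro h ψ
    rw [← cancel_epi ((shiftFunctorZero D ℤ).inv.app X), comp_zero]
    exact h _

lemma V_shift_iff {X Y : D} (a b c : ℤ) (h : a + b = c) : V X a Y ↔ V X c (Y⟦b⟧) := by
  constructor
  · intro hV ψ
    rw [← cancel_epi ((shiftFunctorAdd' D a b c h).inv.app X), comp_zero]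
    obtain ⟨g, hg⟩ := (shiftFunctor D b).map_surjective
      ((shiftFunctorAdd' D a b c h).inv.app X ≫ ψ)
    rw [← hg]
    exact (congrArg (shiftFunctor D b).map (hV g)).trans (Functor.map_zero _ _ _)
  · intro hV ψ
    apply (shiftFunctor D b).map_injective
    rw [Functor.map_zero, ← cancel_epi ((shiftFunctorAdd' D a b c h).hom.app X), comp_zero]
    exact hV _

variable {T : Triangle D} (hT : T ∈ distTriang D)
include hT

lemma eq_zero_of_comp_mor₁ {A : D} (h : ∀ g : A⟦(1 : ℤ)⟧ ⟶ T.obj₃, g = 0) (ψ : A ⟶ T.obj₁)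
    (hψ : ψ ≫ T.mor₁ = 0) : ψ = 0 := by
  obtain ⟨g, hg⟩ := Triangle.coyoneda_exact₁ T hT (ψ⟦(1 : ℤ)⟧')
    (by rw [← Functor.map_comp, hψ, Functor.map_zero])
  apply (shiftFunctor D (1 : ℤ)).map_injective
  rw [hg, h g, zero_comp, Functor.map_zero]

lemma V_obj₁ {A : D} {t : ℤ} (h2 : V A t T.obj₂) (h3 : V A (t + 1) T.obj₃) : V A t T.obj₁ :=
  fun ψ => eq_zero_of_comp_mor₁ hT (fun g => by
    rw [← cancel_epi ((shiftFunctorAdd' D t 1 (t + 1) rfl).hom.app A), comp_zero]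
    exact h3 _) ψ (h2 _)

lemma exists_of_mor₃_comp {W : D} (u : T.obj₁⟦(1 : ℤ)⟧ ⟶ W) (hu : T.mor₃ ≫ u = 0) :
    ∃ g : T.obj₂⟦(1 : ℤ)⟧ ⟶ W, u = (-T.mor₁⟦(1 : ℤ)⟧') ≫ g :=
  Triangle.yoneda_exact₂ T.rotate.rotate (rot_of_distTriang _ (rot_of_distTriang _ hT)) u hu

lemma V_obj₁_left {Z : D} {t : ℤ} (h2 : V T.obj₂ t Z) (h3 : V T.obj₃ (t - 1) Z) :
    V T.obj₁ t Z := by
  rw [V_shift_iff t (1 - t) 1 (by omega)] at h2 ⊢
  rw [V_shift_iff (t - 1) (1 - t) 0 (by omega), V_zero_iff] at h3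
  intro u
  obtain ⟨g, hg⟩ := exists_of_mor₃_comp hT u (h3 _)
  rw [hg, h2 g, comp_zero]

omit hT

lemma exists_of_c_comp {P₁ P₂ P₃ W : D} {f : P₁ ⟶ P₂} {g : P₂ ⟶ P₃} {h : P₃ ⟶ P₁⟦(1 : ℤ)⟧}
    (hd : Triangle.mk f g h ∈ distTriang D) (u : P₁⟦(1 : ℤ)⟧ ⟶ W) (hu : h ≫ u = 0) :
    ∃ k : P₂⟦(1 : ℤ)⟧ ⟶ W, u = (-f⟦(1 : ℤ)⟧') ≫ k :=
  exists_of_mor₃_comp hd u hu

section Vanish

variable {X : ℕ → D} {Y : ℕ → D} {a : ∀ k, Y k ⟶ X k} {b : ∀ k, X (k + 1) ⟶ Y k}
  {c : ∀ k, Y k ⟶ (shiftFunctor D (1 : ℤ)).obj (Y (k + 1))} (m : ℕ)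
  (h0 : IsIso (a 0))
  (hP : ∀ k, k < m → Triangle.mk (a (k + 1)) (b k) (c k) ∈ distTriang D)

include h0 hP

/-- Vanishing of maps into the objects of a Postnikov system. -/
lemma V_into {A : D} (s : ℤ) (hX : ∀ j, j ≤ m → V A (s - j) (X j)) :
    ∀ j, j ≤ m → V A (s - j) (Y j) := by
  intro j
  induction j with
  | zero =>
    intro hj ψ
    rw [← cancel_mono (a 0), zero_comp]
    exact hX 0 hj _
  | succ j ih =>
    intro hj
    refine V_obj₁ (hP j hj) (hX (j + 1) hj) ?_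
    have := ih (by omega)
    rwa [show (s - (↑(j + 1) : ℤ)) + 1 = s - j by push_cast; omega]

/-- Vanishing of maps out of the objects of a Postnikov system. -/
lemma V_out {Z : D} (s : ℤ) (hX : ∀ j, j ≤ m → V (X j) (s + j) Z) :
    ∀ j, j ≤ m → V (Y j) (s + j) Z := by
  intro j
  induction j with
  | zero =>
    intro hj ψ
    rw [← cancel_epi (inv ((shiftFunctor D (s + (0 : ℕ))).map (a 0))), comp_zero]
    exact hX 0 hj _
  | succ j ih =>
    intro hj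
    refine V_obj₁_left (hP j hj) (hX (j + 1) hj) ?_
    have := ih (by omega)
    rwa [show s + (↑(j + 1) : ℤ) - 1 = s + j by push_cast; omega]

end Vanish

section Exist

variable (C : ChainComplex D ℕ)

/-- One step of the construction: the next object with its map, given `(Y_k, a_k)`. -/
lemma exists_next (k : ℕ) (Yk : D) (ak : Yk ⟶ C.X k) :
    ∃ (Y' : D) (a' : Y' ⟶ C.X (k + 1)) (b : C.X (k + 1) ⟶ Yk) (c : Yk ⟶ Y'⟦(1 : ℤ)⟧),
      Triangle.mk a' b c ∈ distTriang D ∧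
      ((∃ b₀, b₀ ≫ ak = C.d (k + 1) k) → b ≫ ak = C.d (k + 1) k) := by
  by_cases h : ∃ b₀, b₀ ≫ ak = C.d (k + 1) k
  · obtain ⟨b₀, hb₀⟩ := h
    obtain ⟨Y', a', c, hT⟩ := distinguished_cocone_triangle₁ b₀
    exact ⟨Y', a', b₀, c, hT, fun _ => hb₀⟩
  · obtain ⟨Y', a', c, hT⟩ := distinguished_cocone_triangle₁ (0 : C.X (k + 1) ⟶ Yk)
    exact ⟨Y', a', 0, c, hT, fun h' => absurd h' h⟩

/-- The objects with their maps. -/
noncomputable def system : ∀ k, Σ Y : D, (Y ⟶ C.X k)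
  | 0 => ⟨C.X 0, 𝟙 _⟩
  | k + 1 =>
    ⟨(exists_next C k (system k).1 (system k).2).choose,
      (exists_next C k (system k).1 (system k).2).choose_spec.choose⟩

theorem exists_system (n : ℕ)
    (hX : ∀ i j : ℕ, j + 2 < i → i ≤ n → V (C.X i) ((i : ℤ) - j - 2) (C.X j)) :
    ∃ (Y : ℕ → D) (a : ∀ k, Y k ⟶ C.X k) (b : ∀ k, C.X (k + 1) ⟶ Y k)
      (c : ∀ k, Y k ⟶ (shiftFunctor D (1 : ℤ)).obj (Y (k + 1))),
      IsIso (a 0) ∧ ∀ k, k < n →
        Triangle.mk (a (k + 1)) (b k) (c k) ∈ distTriang D ∧ b k ≫ a k = C.d (k + 1) k := by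
  let Y := fun k => (system C k).1
  let a : ∀ k, Y k ⟶ C.X k := fun k => (system C k).2
  let spec := fun k => (exists_next C k (Y k) (a k)).choose_spec.choose_spec
  let b : ∀ k, C.X (k + 1) ⟶ Y k := fun k => (spec k).choose
  let c : ∀ k, Y k ⟶ (shiftFunctor D (1 : ℤ)).obj (Y (k + 1)) :=
    fun k => (spec k).choose_spec.choose
  have hc : ∀ k, Triangle.mk (a (k + 1)) (b k) (c k) ∈ distTriang D ∧
      ((∃ b₀, b₀ ≫ a k = C.d (k + 1) k) → b k ≫ a k = C.d (k + 1) k) :=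
    fun k => (spec k).choose_spec.choose_spec
  refine ⟨Y, a, b, c, (inferInstance : IsIso (𝟙 (C.X 0))), ?_⟩
  suffices h : ∀ k, k < n → b k ≫ a k = C.d (k + 1) k from fun k hk => ⟨(hc k).1, h k hk⟩
  intro k
  induction k with
  | zero => exact fun _ => (hc 0).2 ⟨C.d 1 0, Category.comp_id _⟩
  | succ k ih =>
    intro hk
    apply (hc (k + 1)).2
    have hd : C.d (k + 2) (k + 1) ≫ b k = 0 := by
      have e : (C.d (k + 2) (k + 1) ≫ b k) ≫ a k = 0 := by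
        rw [Category.assoc, ih (by omega), C.d_comp_d]
      cases k with
      | zero =>
        refine Eq.trans ?_ e
        exact (Category.comp_id _).symm
      | succ l =>
        refine eq_zero_of_comp_mor₁ (hc l).1 ?_ _ e
        have := V_into l (inferInstance : IsIso (𝟙 (C.X 0))) (fun k _ => (hc k).1) (A := C.X (l + 3))
          ((l : ℤ) + 1) (fun j hj => by
            have := hX (l + 3) j (by omega) (by omega)
            rwa [show ((l : ℤ) + 1) - j = ((l + 3 : ℕ) : ℤ) - j - 2 by push_cast; omega])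
          l le_rfl
        rwa [show ((l : ℤ) + 1) - l = 1 by omega] at this
    obtain ⟨g, hg⟩ := Triangle.coyoneda_exact₂ _ (hc k).1 (C.d (k + 2) (k + 1)) hd
    exact ⟨g, hg.symm⟩

end Exist

section Morph

variable {C C' : ChainComplex D ℕ} (φ : C ⟶ C') {n : ℕ}
  {Y : ℕ → D} {a : ∀ k, Y k ⟶ C.X k} {b : ∀ k, C.X (k + 1) ⟶ Y k}
  {c : ∀ k, Y k ⟶ (shiftFunctor D (1 : ℤ)).obj (Y (k + 1))}
  (h0 : IsIso (a 0))
  (hP : ∀ k, k < n → Triangle.mk (a (k + 1)) (b k) (c k) ∈ distTriang D ∧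
    b k ≫ a k = C.d (k + 1) k)
  {Y' : ℕ → D} {a' : ∀ k, Y' k ⟶ C'.X k} {b' : ∀ k, C'.X (k + 1) ⟶ Y' k}
  {c' : ∀ k, Y' k ⟶ (shiftFunctor D (1 : ℤ)).obj (Y' (k + 1))}
  (h0' : IsIso (a' 0))
  (hP' : ∀ k, k < n → Triangle.mk (a' (k + 1)) (b' k) (c' k) ∈ distTriang D ∧
    b' k ≫ a' k = C'.d (k + 1) k)

variable (a b c a' b' c') in
open Classical in
/-- The components of an extension. -/
noncomputable def ext : ∀ k, Y k ⟶ Y' k
  | 0 => a 0 ≫ φ.f 0 ≫ (if h : IsIso (a' 0) then @inv _ _ _ _ (a' 0) h else 0)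
  | k + 1 =>
    if h : ∃ y : Y (k + 1) ⟶ Y' (k + 1), a (k + 1) ≫ φ.f (k + 1) = y ≫ a' (k + 1) ∧
      c k ≫ (shiftFunctor D (1 : ℤ)).map y = ext k ≫ c' k then h.choose else 0

include h0 hP h0' hP'

theorem exists_extension
    (hX : ∀ i j : ℕ, j + 1 < i → i ≤ n → V (C.X i) ((i : ℤ) - j - 1) (C'.X j)) :
    ∃ y : ∀ k, Y k ⟶ Y' k,
      (∀ k, k ≤ n → y k ≫ a' k = a k ≫ φ.f k) ∧
      (∀ k, k < n → b k ≫ y k = φ.f (k + 1) ≫ b' k ∧
        c k ≫ (shiftFunctor D (1 : ℤ)).map (y (k + 1)) = y k ≫ c' k) := by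
  let y := ext φ a c a' c'
  have key : ∀ k, k ≤ n → (y k ≫ a' k = a k ≫ φ.f k) ∧
      (∀ l, l + 1 = k → b l ≫ y l = φ.f (l + 1) ≫ b' l ∧
        c l ≫ (shiftFunctor D (1 : ℤ)).map (y (l + 1)) = y l ≫ c' l) := by
    intro k
    induction k with
    | zero => exact fun _ => ⟨by simp [y, ext, dif_pos h0'], fun l hl => absurd hl (by omega)⟩
    | succ k ih =>
      intro hk
      obtain ⟨hyk, -⟩ := ih (by omega)
      have hb : b k ≫ y k = φ.f (k + 1) ≫ b' k := by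
        rw [← sub_eq_zero]
        have e : (b k ≫ y k - φ.f (k + 1) ≫ b' k) ≫ a' k = 0 := by
          rw [Preadditive.sub_comp, Category.assoc, Category.assoc, hyk, reassoc_of% (hP k hk).2,
            (hP' k hk).2, φ.comm, sub_self]
        cases k with
        | zero => rwa [Preadditive.IsIso.comp_right_eq_zero] at e
        | succ l =>
          refine eq_zero_of_comp_mor₁ (hP' l (by omega)).1 ?_ _ e
          have := V_into l h0' (fun k hk => (hP' k (by omega)).1) (A := C.X (l + 2))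
            ((l : ℤ) + 1) (fun j hj => by
              have := hX (l + 2) j (by omega) (by omega)
              rwa [show ((l : ℤ) + 1) - j = ((l + 2 : ℕ) : ℤ) - j - 1 by push_cast; omega])
            l le_rfl
          rwa [show ((l : ℤ) + 1) - l = 1 by omega] at this
      obtain ⟨z, hz₁, hz₂⟩ := complete_distinguished_triangle_morphism₁ _ _ (hP k hk).1
        (hP' k hk).1 (φ.f (k + 1)) (y k) hb
      have hy : ∃ z : Y (k + 1) ⟶ Y' (k + 1), a (k + 1) ≫ φ.f (k + 1) = z ≫ a' (k + 1) ∧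
          c k ≫ (shiftFunctor D (1 : ℤ)).map z = y k ≫ c' k := ⟨z, hz₁, hz₂⟩
      have hy' : y (k + 1) = hy.choose := dif_pos hy
      refine ⟨by rw [hy']; exact hy.choose_spec.1.symm, fun l hl => ?_⟩
      obtain rfl : l = k := by omega
      exact ⟨hb, by rw [hy']; exact hy.choose_spec.2⟩
  exact ⟨y, fun k hk => (key k hk).1, fun k hk => (key (k + 1) hk).2 k rfl⟩

variable {φ} {y z : ∀ k, Y k ⟶ Y' k}
  (hy : (∀ k, k ≤ n → y k ≫ a' k = a k ≫ φ.f k) ∧
    (∀ k, k < n → b k ≫ y k = φ.f (k + 1) ≫ b' k ∧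
      c k ≫ (shiftFunctor D (1 : ℤ)).map (y (k + 1)) = y k ≫ c' k))
  (hz : (∀ k, k ≤ n → z k ≫ a' k = a k ≫ φ.f k) ∧
    (∀ k, k < n → b k ≫ z k = φ.f (k + 1) ≫ b' k ∧
      c k ≫ (shiftFunctor D (1 : ℤ)).map (z (k + 1)) = z k ≫ c' k))

include hy hz

theorem eq_last
    (hv : ∀ i : ℕ, 1 ≤ i → i ≤ n → V (C.X i) (i : ℤ) ((shiftFunctor D (n : ℤ)).obj (Y' n))) :
    y n = z n := by
  suffices h : ∀ k, k ≤ n → ∀ g : Y' k ⟶ (Y' n)⟦(n : ℤ) - k⟧, (y k - z k) ≫ g = 0 by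
    have := h n le_rfl ((shiftFunctorZero' D ((n : ℤ) - n) (sub_self _)).inv.app (Y' n))
    rwa [Preadditive.IsIso.comp_right_eq_zero, sub_eq_zero] at this
  intro k
  induction k with
  | zero =>
    intro hk g
    have : y 0 = z 0 := by rw [← cancel_mono (a' 0), hy.1 0 hk, hz.1 0 hk]
    rw [this, sub_self, zero_comp]
  | succ k ih =>
    intro hk g
    apply (shiftFunctor D (1 : ℤ)).map_injective
    rw [Functor.map_zero]
    obtain ⟨g', hg'⟩ := exists_of_c_comp (hP k hk).1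
      (((y (k + 1) - z (k + 1)) ≫ g)⟦(1 : ℤ)⟧') (by
        rw [Functor.map_comp, Functor.map_sub, Preadditive.sub_comp, Preadditive.comp_sub,
          reassoc_of% (hy.2 k hk).2, reassoc_of% (hz.2 k hk).2, ← Preadditive.sub_comp,
          ← cancel_mono ((shiftFunctorAdd' D ((n : ℤ) - (k + 1 : ℕ)) 1 ((n : ℤ) - k)
            (by push_cast; omega)).inv.app (Y' n)), zero_comp, Category.assoc, Category.assoc]
        exact ih (by omega) _)
    rw [hg']
    have h1 : V (C.X (k + 1)) 1 ((Y' n)⟦(n : ℤ) - (k + 1 : ℕ)⟧⟦(1 : ℤ)⟧) := by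
      rw [← V_shift_iff 0 1 1 (zero_add 1),
        ← V_shift_iff (((k + 1 : ℕ) : ℤ) - n) ((n : ℤ) - (k + 1 : ℕ)) 0 (by omega),
        V_shift_iff (((k + 1 : ℕ) : ℤ) - n) (n : ℤ) ((k + 1 : ℕ) : ℤ) (by omega)]
      exact hv _ (by omega) hk
    exact (congrArg (_ ≫ ·) (h1 g')).trans comp_zero

theorem eq_all
    (hv : ∀ i j : ℕ, 0 < i → i ≤ j → j ≤ n →
      (∀ ψ : (shiftFunctor D (1 - (i : ℤ))).obj (C.X (j - i)) ⟶ C'.X j, ψ = 0) ∧
      (∀ ψ : C.X j ⟶ (shiftFunctor D (-(i : ℤ))).obj (C'.X (j - i)), ψ = 0)) :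
    ∀ k, k ≤ n → y k = z k := by
  have hA : ∀ p q : ℕ, p < q → q ≤ n → V (C.X p) ((p : ℤ) - q + 1) (C'.X q) := by
    intro p q hp hq
    have := (hv (q - p) q (by omega) (by omega) hq).1
    rw [show q - (q - p) = p by omega, show (1 : ℤ) - ((q - p : ℕ) : ℤ) = (p : ℤ) - q + 1 by omega]
      at this
    exact this
  have hB : ∀ p q : ℕ, q < p → p ≤ n → V (C.X p) ((p : ℤ) - q) (C'.X q) := by
    intro p q hp hq
    have := (hv (p - q) p (by omega) (by omega) hq).2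
    rw [show p - (p - q) = q by omega, show -((p - q : ℕ) : ℤ) = (q : ℤ) - p by omega] at this
    rw [V_shift_iff ((p : ℤ) - q) ((q : ℤ) - p) 0 (by omega), V_zero_iff]
    exact this
  intro k
  induction k with
  | zero => intro hk; rw [← cancel_mono (a' 0), hy.1 0 hk, hz.1 0 hk]
  | succ k ih =>
    intro hk
    have hk' := ih (by omega)
    obtain ⟨g, hg⟩ := exists_of_c_comp (hP k hk).1 ((y (k + 1) - z (k + 1))⟦(1 : ℤ)⟧') (by
        rw [Functor.map_sub, Preadditive.comp_sub, (hy.2 k hk).2, (hz.2 k hk).2, hk', sub_self])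
    obtain ⟨g, rfl⟩ := (shiftFunctor D (1 : ℤ)).map_surjective g
    have hδ : y (k + 1) - z (k + 1) = a (k + 1) ≫ (-g) := by
      apply (shiftFunctor D (1 : ℤ)).map_injective
      rw [hg]
      simp
    have h1 : V (C.X (k + 1)) 1 (Y' k) := by
      have := V_into k h0' (fun j hj => (hP' j (by omega)).1) (A := C.X (k + 1)) ((k : ℤ) + 1)
        (fun j hj => by
          have := hB (k + 1) j (by omega) hk
          rwa [show ((k : ℤ) + 1) - j = ((k + 1 : ℕ) : ℤ) - j by omega]) k le_rfl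
      rwa [show ((k : ℤ) + 1) - k = 1 by omega] at this
    have h2 : ∀ e : Y k ⟶ C'.X (k + 1), e = 0 := by
      have := V_out k h0 (fun j hj => (hP j (by omega)).1) (Z := C'.X (k + 1)) (-(k : ℤ))
        (fun j hj => by
          have := hA j (k + 1) (by omega) hk
          rwa [show -(k : ℤ) + j = (j : ℤ) - ((k + 1 : ℕ) : ℤ) + 1 by omega]) k le_rfl
      rwa [show -(k : ℤ) + k = 0 by omega, V_zero_iff] at this
    have hga : (-g) ≫ a' (k + 1) = 0 := by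
      obtain ⟨e, he⟩ := Triangle.yoneda_exact₂ _ (hP k hk).1 ((-g) ≫ a' (k + 1)) (by
        change a (k + 1) ≫ (_ ≫ _) = 0
        rw [← Category.assoc, ← hδ, Preadditive.sub_comp, hy.1 _ hk, hz.1 _ hk, sub_self])
      exact he.trans ((congrArg (b k ≫ ·) (h2 e)).trans comp_zero)
    have : -g = 0 := eq_zero_of_comp_mor₁ (hP' k hk).1 h1 _ hga
    rw [this, comp_zero, sub_eq_zero] at hδ
    exact hδ

end Morph

end Groth.Agent.Lib.Postnikov.Basic
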